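import Mathlib
import Groth.Agent.Lib.Helper6.Sib.Singles

set_option linter.unusedSectionVars false
set_option linter.unusedVariables false
set_option linter.unusedSimpArgs false
set_option autoImplicit false
set_option linter.style.haveILetI false
set_option maxHeartbeats 400000

universe w v u v' u'

noncomputable section

namespace Groth.Agent.Helper6.Sib2

open CategoryTheory CategoryTheory.Limits DerivedCategory CategoryTheory.Pretriangulated
open Groth.Agent.Helper6.Sib

variable {A : Type u} [Category.{v} A] [Abelian A] [HasDerivedCategory.{w} A]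

variable {D : Type u'} [Category.{v'} D] [Preadditive D] [HasZeroObject D] [HasShift D ℤ]
  [∀ n : ℤ, (shiftFunctor D n).Additive] [Pretriangulated D]

variable (F F' : DerivedCategory.Bounded A ⥤ D) [F.CommShift ℤ] [F'.CommShift ℤ]

/-- naturality of a pair of maps with respect to all morphisms `Z ⟶ Z'` -/
def NatP (Z Z' : DerivedCategory.Bounded A) (u : F.obj Z ⟶ F'.obj Z)
    (u' : F.obj Z' ⟶ F'.obj Z') : Prop :=
  ∀ g : Z ⟶ Z', F.map g ≫ u' = u ≫ F'.map g

variable {F F'}

lemma NatP.shift {Z Z' : DerivedCategory.Bounded A} {u : F.obj Z ⟶ F'.obj Z}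
    {u' : F.obj Z' ⟶ F'.obj Z'} (h : NatP F F' Z Z' u u') (a : ℤ) :
    NatP F F' (Z⟦a⟧) (Z'⟦a⟧)
      ((F.commShiftIso a).hom.app Z ≫ u⟦a⟧' ≫ (F'.commShiftIso a).inv.app Z)
      ((F.commShiftIso a).hom.app Z' ≫ u'⟦a⟧' ≫ (F'.commShiftIso a).inv.app Z') := by
  intro g₁
  obtain ⟨g, rfl⟩ := (shiftFunctor _ a).map_surjective g₁
  rw [map_shift_eq (G := F), map_shift_eq (G := F')]
  simp only [Category.assoc, Iso.inv_hom_id_app_assoc]
  rw [← Functor.map_comp_assoc, h g, Functor.map_comp_assoc]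

lemma NatP.of_iso {Z Z' Z₁ Z₁' : DerivedCategory.Bounded A} {u : F.obj Z ⟶ F'.obj Z}
    {u' : F.obj Z' ⟶ F'.obj Z'} (h : NatP F F' Z Z' u u') (e : Z₁ ≅ Z) (e' : Z₁' ≅ Z') :
    NatP F F' Z₁ Z₁' (F.map e.hom ≫ u ≫ F'.map e.inv) (F.map e'.hom ≫ u' ≫ F'.map e'.inv) := by
  intro g
  have h1 := h (e.inv ≫ g ≫ e'.hom)
  simp only [Functor.map_comp, Category.assoc] at h1
  simp only [Category.assoc]
  rw [← F'.map_comp e.inv g, ← F.map_comp_assoc g e'.hom]
  have h2 : F.map (g ≫ e'.hom) = F.map e.hom ≫ F.map e.inv ≫ F.map g ≫ F.map e'.hom := by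
    rw [← F.map_comp_assoc e.hom, Iso.hom_inv_id, F.map_id, Category.id_comp, F.map_comp]
  have h3 : F'.map (e.inv ≫ g) = F'.map e.inv ≫ F'.map g ≫ F'.map e'.hom ≫ F'.map e'.inv := by
    rw [← F'.map_comp e'.hom, Iso.hom_inv_id, F'.map_id, Category.comp_id, F'.map_comp]
  rw [h2, h3]
  simp only [Category.assoc]
  rw [reassoc_of% h1]

variable (t : DEquiv.singleB A ⋙ F ≅ DEquiv.singleB A ⋙ F')

/-- transport of a presentation along an isomorphism -/
def ofIso {d : ℤ} {Z Z₁ : DerivedCategory.Bounded A} (r : SingRep d Z) (e : Z₁ ≅ Z) :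
    SingRep d Z₁ where
  Y := r.Y
  iso := e ≪≫ r.iso

lemma tIso_ofIso {d : ℤ} {Z Z₁ : DerivedCategory.Bounded A} (r : SingRep d Z) (e : Z₁ ≅ Z) :
    ((ofIso r e).tIso F F' t).hom = F.map e.hom ≫ (r.tIso F F' t).hom ≫ F'.map e.inv := by
  rw [SingRep.tIso_hom, SingRep.tIso_hom]
  simp only [ofIso, Iso.trans_hom, Iso.trans_inv, Functor.map_comp, Category.assoc]

/-- the isomorphism `tIso` does not depend on the presentation (in a fixed degree) -/
lemma tIso_eq {d : ℤ} {Z : DerivedCategory.Bounded A} (r r' : SingRep d Z) :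
    (r.tIso F F' t).hom = (r'.tIso F F' t).hom := by
  have := SingRep.t_natural (F := F) (F' := F') (t := t) r' r (𝟙 Z)
  rw [F.map_id, F'.map_id, Category.id_comp, Category.comp_id] at this
  exact this

variable [F.IsTriangulated] [F'.IsTriangulated] [F.Full] [F.Faithful]

include t in
/-- maps `F K ⟶ F' Z'` vanish if maps `K ⟶ Z'` vanish, for `Z'` a single -/
lemma hom_FF'_zero {d' : ℤ} {K Z' : DerivedCategory.Bounded A} (r' : SingRep d' Z')
    (h : ∀ φ : K ⟶ Z', φ = 0) (e : F.obj K ⟶ F'.obj Z') : e = 0 := by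
  obtain ⟨φ, hφ⟩ := F.map_surjective (e ≫ (r'.tIso F F' t).inv)
  rw [h φ, F.map_zero] at hφ
  rw [← cancel_mono (r'.tIso F F' t).inv, ← hφ, zero_comp]

/-- naturality of `tIso` for maps from a single in degree `0` to a single in degree `-q` -/
theorem nat_single_source : ∀ (q : ℕ) (d' : ℤ) (hd : d' = -(q : ℤ)) (X : A)
    (T' : DerivedCategory.Bounded A) (r' : SingRep d' T'),
    NatP F F' ((DEquiv.singleB A).obj X) T' ((singRepZero X).tIso F F' t).hom
      (r'.tIso F F' t).hom := by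
  intro q
  induction q with
  | zero =>
    intro d' hd X T' r' g
    have : d' = 0 := by simpa using hd
    subst this
    exact SingRep.t_natural (singRepZero X) r' g
  | succ q ih =>
    intro d' hd X T' r' g
    have hd'neg : d' < 0 := by push_cast at hd; lia
    obtain ⟨X', π, hπ, hk⟩ := exists_epi_kill_bdd hd'neg X r' g
    obtain ⟨W, ε, γ, hT⟩ := exists_epi_triangle π
    let r₀ := singRepZero X
    let r₀' := singRepZero X'
    let r₁ : SingRep (-1) (((DEquiv.singleB A).obj W)⟦(1 : ℤ)⟧) :=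
      (singRepZero W).shift 1 (-1) (by lia)
    let r₂ : SingRep (-1) (((DEquiv.singleB A).obj X')⟦(1 : ℤ)⟧) :=
      (singRepZero X').shift 1 (-1) (by lia)
    have IH : NatP F F' (((DEquiv.singleB A).obj W)⟦(1 : ℤ)⟧) T' (r₁.tIso F F' t).hom
        (r'.tIso F F' t).hom := by
      have h1 := (ih (d' + 1) (by push_cast at hd; lia) W _
        (r'.shift (-1) (d' + 1) (by lia))).shift 1
      have h2 := h1.of_iso (Iso.refl _)
        ((shiftFunctorCompIsoId (DerivedCategory.Bounded A) (-1 : ℤ) 1 (by simp)).symm.app T')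
      rw [← SingRep.tIso_shift (singRepZero W) 1 (-1) (by lia)] at h2
      rw [← SingRep.tIso_shift (r'.shift (-1) (d' + 1) (by lia)) 1 d' (by lia)] at h2
      rw [← tIso_ofIso, ← tIso_ofIso] at h2
      rw [tIso_eq t _ r₁, tIso_eq t _ r'] at h2
      exact h2
    have hFT := F.map_distinguished _ hT
    have hF'T := F'.map_distinguished _ hT
    have hγ : F.map γ ≫ (r₂.tIso F F' t).hom = (r₁.tIso F F' t).hom ≫ F'.map γ :=
      SingRep.t_natural r₁ r₂ γ
    have hcomm : (F.mapTriangle.obj (Triangle.mk ((DEquiv.singleB A).map π) ε γ)).mor₃ ≫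
        ((r₀'.tIso F F' t).hom)⟦(1 : ℤ)⟧' =
        (r₁.tIso F F' t).hom ≫
          (F'.mapTriangle.obj (Triangle.mk ((DEquiv.singleB A).map π) ε γ)).mor₃ := by
      have h3 := SingRep.tIso_shift (F := F) (F' := F') (t := t) r₀' 1 (-1) (by lia)
      change (F.map γ ≫ (F.commShiftIso (1 : ℤ)).hom.app _) ≫ ((r₀'.tIso F F' t).hom)⟦(1 : ℤ)⟧' =
        (r₁.tIso F F' t).hom ≫ F'.map γ ≫ (F'.commShiftIso (1 : ℤ)).hom.app _
      rw [← reassoc_of% hγ]
      change _ = F.map γ ≫ ((r₀'.shift 1 (-1) (by lia)).tIso F F' t).hom ≫ _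
      rw [h3]
      simp only [Category.assoc, Iso.inv_hom_id_app, Functor.comp_obj, Category.comp_id]
    obtain ⟨c₂, hc1, hc2⟩ : ∃ c₂ : F.obj ((DEquiv.singleB A).obj X) ⟶
        F'.obj ((DEquiv.singleB A).obj X),
        F.map ((DEquiv.singleB A).map π) ≫ c₂ =
          (r₀'.tIso F F' t).hom ≫ F'.map ((DEquiv.singleB A).map π) ∧
        F.map ε ≫ (r₁.tIso F F' t).hom = c₂ ≫ F'.map ε :=
      complete_distinguished_triangle_morphism₂ _ _ hFT hF'T
        (r₀'.tIso F F' t).hom (r₁.tIso F F' t).hom hcomm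
    have hπnat : F.map ((DEquiv.singleB A).map π) ≫ (r₀.tIso F F' t).hom =
        (r₀'.tIso F F' t).hom ≫ F'.map ((DEquiv.singleB A).map π) :=
      SingRep.t_natural r₀' r₀ _
    have hc₂ : c₂ = (r₀.tIso F F' t).hom := by
      have h4 : F.map ((DEquiv.singleB A).map π) ≫ (c₂ - (r₀.tIso F F' t).hom) = 0 := by
        rw [Preadditive.comp_sub, hπnat]
        exact sub_eq_zero.2 hc1
      have e1 : ∃ u : F.obj (((DEquiv.singleB A).obj W)⟦(1 : ℤ)⟧) ⟶
          F'.obj ((DEquiv.singleB A).obj X), c₂ - (r₀.tIso F F' t).hom = F.map ε ≫ u :=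
        Triangle.yoneda_exact₂ _ hFT _ h4
      obtain ⟨u, hu⟩ := e1
      have hu0 : u = 0 := hom_FF'_zero t r₀ (fun φ => r₁.hom_eq_zero r₀ (by lia) φ) u
      rw [hu0, comp_zero] at hu
      exact sub_eq_zero.1 hu
    have hε : F.map ε ≫ (r₁.tIso F F' t).hom = (r₀.tIso F F' t).hom ≫ F'.map ε := by
      rw [← hc₂]
      exact hc2
    have e2 : ∃ g' : ((DEquiv.singleB A).obj W)⟦(1 : ℤ)⟧ ⟶ T', g = ε ≫ g' :=
      Triangle.yoneda_exact₂ _ hT g hk
    obtain ⟨g', hg'⟩ := e2
    rw [hg', F.map_comp, F'.map_comp, Category.assoc, IH g', reassoc_of% hε]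

/-- naturality of `tIso` for all maps between singles -/
theorem nat_singles {d d' : ℤ} {Z Z' : DerivedCategory.Bounded A} (r : SingRep d Z)
    (r' : SingRep d' Z') : NatP F F' Z Z' (r.tIso F F' t).hom (r'.tIso F F' t).hom := by
  by_cases h : d < d'
  · intro g
    rw [r.hom_eq_zero r' h g, F.map_zero, F'.map_zero, zero_comp, comp_zero]
  · have h1 := nat_single_source t (d - d').toNat (d' - d) (by lia) r.Y (Z'⟦d⟧)
      (r'.shift d (d' - d) (by lia))
    have h2 := (h1.shift (-d)).of_iso r.iso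
      ((shiftFunctorCompIsoId (DerivedCategory.Bounded A) d (-d) (by simp)).symm.app Z')
    rw [← SingRep.tIso_shift (singRepZero r.Y) (-d) d (by lia)] at h2
    rw [← SingRep.tIso_shift (r'.shift d (d' - d) (by lia)) (-d) d' (by lia)] at h2
    rw [← tIso_ofIso, ← tIso_ofIso] at h2
    rw [tIso_eq t _ r, tIso_eq t _ r'] at h2
    exact h2

/-- `tIso` does not depend on the presentation -/
lemma tIso_eq' {d d' : ℤ} {Z : DerivedCategory.Bounded A} (r : SingRep d Z) (r' : SingRep d' Z) :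
    (r.tIso F F' t).hom = (r'.tIso F F' t).hom := by
  have := nat_singles t r' r (𝟙 Z)
  rw [F.map_id, F'.map_id, Category.id_comp, Category.comp_id] at this
  exact this

end Groth.Agent.Helper6.Sib2
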