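import Mathlib
import Groth.Agent.Lib.Helper6.DRef.SingleEpi

set_option linter.unusedSectionVars false
set_option linter.unusedVariables false
set_option linter.unusedSimpArgs false
set_option autoImplicit false
set_option linter.style.haveILetI false
set_option maxHeartbeats 400000

universe w v u

noncomputable section

namespace Groth.Agent.Helper6.Sib2

open CategoryTheory CategoryTheory.Limits DerivedCategory CategoryTheory.Pretriangulated

variable {A : Type u} [Category.{v} A] [Abelian A] [HasDerivedCategory.{w} A]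

/-- upper bound for the cone of a map which is epi on top cohomology -/
lemma cone_isLE {T : Triangle (DerivedCategory A)} (hT : T ∈ distTriang _) (b : ℤ)
    [T.obj₁.IsLE b] [T.obj₂.IsLE b]
    (hepi : Epi ((DerivedCategory.homologyFunctor A b).map T.mor₁)) : T.obj₃.IsLE (b - 1) := by
  rw [DerivedCategory.isLE_iff]
  intro i hi
  have ex := DerivedCategory.HomologySequence.exact₃ T hT i (i + 1) rfl
  by_cases hib : i = b
  · subst hib
    have h0 : (DerivedCategory.homologyFunctor A i).map T.mor₂ = 0 :=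
      (DerivedCategory.HomologySequence.epi_homologyMap_mor₁_iff T hT i).1 hepi
    exact ex.isZero_of_both_zeros h0
      ((DerivedCategory.isZero_of_isLE T.obj₁ i (i + 1) (by lia)).eq_of_tgt _ _)
  · exact ex.isZero_of_both_zeros
      ((DerivedCategory.isZero_of_isLE T.obj₂ b i (by lia)).eq_of_src _ _)
      ((DerivedCategory.isZero_of_isLE T.obj₁ b (i + 1) (by lia)).eq_of_tgt _ _)

/-- lower bound for the cone -/
lemma cone_isGE {T : Triangle (DerivedCategory A)} (hT : T ∈ distTriang _) (a' b : ℤ)
    [T.obj₁.IsGE b] [T.obj₂.IsGE a'] (h : a' ≤ b - 1) : T.obj₃.IsGE a' := by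
  rw [DerivedCategory.isGE_iff]
  intro i hi
  have ex := DerivedCategory.HomologySequence.exact₃ T hT i (i + 1) rfl
  exact ex.isZero_of_both_zeros
    ((DerivedCategory.isZero_of_isGE T.obj₂ a' i hi).eq_of_src _ _)
    ((DerivedCategory.isZero_of_isGE T.obj₁ b (i + 1) (by lia)).eq_of_tgt _ _)

/-- a map between singles in the same degree inducing zero on cohomology is zero -/
lemma single_map_eq_zero_of_homology {M N : A} (b : ℤ)
    (f : (DerivedCategory.singleFunctor A b).obj M ⟶ (DerivedCategory.singleFunctor A b).obj N)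
    (h : (DerivedCategory.homologyFunctor A b).map f = 0) : f = 0 := by
  obtain ⟨m, rfl⟩ := (DerivedCategory.singleFunctor A b).map_surjective f
  have e := NatIso.naturality_1 (DerivedCategory.singleFunctorCompHomologyFunctorIso A b) m
  dsimp at e
  rw [h] at e
  have : m = 0 := by rw [← e]; simp
  rw [this, Functor.map_zero]

/-- maps from `K ∈ D^{≤ b}` to a single `N[-b]` vanish if `Hom(H^b K, N) = 0` -/
lemma hom_single_eq_zero (K : DerivedCategory A) (b : ℤ) [K.IsLE b] (N : A)
    (hN : ∀ φ : (DerivedCategory.homologyFunctor A b).obj K ⟶ N, φ = 0)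
    (ψ : K ⟶ (DerivedCategory.singleFunctor A b).obj N) : ψ = 0 := by
  obtain ⟨M, ξ₀, hepi⟩ := DRef.exists_single_epi K b
  obtain ⟨Y₀, η₀, δ₀, hT⟩ := distinguished_cocone_triangle ξ₀
  haveI : (Triangle.mk ξ₀ η₀ δ₀).obj₁.IsLE b :=
    inferInstanceAs (((DerivedCategory.singleFunctor A b).obj M).IsLE b)
  haveI : (Triangle.mk ξ₀ η₀ δ₀).obj₂.IsLE b := inferInstanceAs (K.IsLE b)
  haveI hY : Y₀.IsLE (b - 1) := cone_isLE hT b hepi
  have hψ : (DerivedCategory.homologyFunctor A b).map ψ = 0 := by
    have h1 := hN ((DerivedCategory.homologyFunctor A b).map ψ ≫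
      (DerivedCategory.singleFunctorCompHomologyFunctorIso A b).hom.app N)
    rw [← cancel_mono ((DerivedCategory.singleFunctorCompHomologyFunctorIso A b).hom.app N), h1,
      zero_comp]
  have h0 : ξ₀ ≫ ψ = 0 := by
    apply single_map_eq_zero_of_homology
    rw [Functor.map_comp, hψ, comp_zero]
  have e1 : ∃ ψ' : Y₀ ⟶ (DerivedCategory.singleFunctor A b).obj N, ψ = η₀ ≫ ψ' :=
    Triangle.yoneda_exact₂ _ hT ψ h0
  obtain ⟨ψ', hψ'⟩ := e1
  have : ψ' = 0 := TStructure.t.zero ψ' (b - 1) b (by lia)
  rw [hψ', this, comp_zero]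

end Groth.Agent.Helper6.Sib2
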