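import Mathlib
import Groth.Agent.Lib.Helper6.Sib2.HomSingle
import Groth.Agent.Lib.Helper6.Sib.Singles

set_option linter.unusedSectionVars false
set_option linter.unusedVariables false
set_option linter.unusedSimpArgs false
set_option autoImplicit false
set_option linter.style.haveILetI false
set_option maxHeartbeats 400000

universe w v u

noncomputable section

namespace Groth.Agent.Helper6.Sib2

open CategoryTheory CategoryTheory.Limits DerivedCategory CategoryTheory.Pretriangulated

variable {A : Type u} [Category.{v} A] [Abelian A] [HasDerivedCategory.{w} A]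

/-- existence of negative presentations of the top cohomology -/
theorem exists_pres (hneg : ∀ X : A, ∃ (N : A) (p : N ⟶ X), Epi p ∧ ∀ f : X ⟶ N, f = 0)
    (b : ℤ) (K M L : DerivedCategory.Bounded A) (g : K ⟶ L)
    (hK : K.obj.IsLE b) (hM : M.obj.IsLE b) (hL : L.obj.IsLE (b - 1)) :
    ∃ (N : A) (ξ : Sib.sObj b N ⟶ K),
      Epi ((DerivedCategory.homologyFunctor A b).map
        ((TStructure.t (C := A)).bounded.ι.map ξ)) ∧
      (∀ φ : K ⟶ Sib.sObj b N, φ = 0) ∧ (∀ φ : M ⟶ Sib.sObj b N, φ = 0) ∧ ξ ≫ g = 0 := by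
  let X : DerivedCategory A := K.obj ⊞ M.obj
  haveI : X.IsLE b :=
    TStructure.t.isLE₂ _ (binaryBiproductTriangle_distinguished K.obj M.obj) b hK hM
  let f : X ⟶ L.obj := biprod.fst ≫ (TStructure.t (C := A)).bounded.ι.map g
  obtain ⟨N, g₀, hepi, hN, hg₀⟩ := DRef.exists_neg_map hneg X L.obj f b
  let ξ : Sib.sObj b N ⟶ K := ObjectProperty.homMk (g₀ ≫ biprod.fst)
  have hvan : ∀ (P : DerivedCategory A) (p : X ⟶ P)
      (_ : Epi ((DerivedCategory.homologyFunctor A b).map p)) (_ : P.IsLE b)
      (ψ : P ⟶ (DerivedCategory.singleFunctor A b).obj N), ψ = 0 := by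
    intro P p hp hP ψ
    apply hom_single_eq_zero P b N
    intro φ'
    have h1 := hN ((DerivedCategory.homologyFunctor A b).map p ≫ φ')
    rw [← cancel_epi ((DerivedCategory.homologyFunctor A b).map p), h1, comp_zero]
  refine ⟨N, ξ, ?_, ?_, ?_, ?_⟩
  · change Epi ((DerivedCategory.homologyFunctor A b).map (g₀ ≫ biprod.fst))
    rw [Functor.map_comp]
    infer_instance
  · intro φ
    apply (TStructure.t (C := A)).bounded.ι.map_injective
    rw [Functor.map_zero]
    exact hvan K.obj biprod.fst inferInstance hK _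
  · intro φ
    apply (TStructure.t (C := A)).bounded.ι.map_injective
    rw [Functor.map_zero]
    exact hvan M.obj biprod.snd inferInstance hM _
  · apply (TStructure.t (C := A)).bounded.ι.map_injective
    rw [Functor.map_zero, Functor.map_comp]
    change (g₀ ≫ biprod.fst) ≫ _ = 0
    rw [Category.assoc]
    exact hg₀

end Groth.Agent.Helper6.Sib2
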