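import Mathlib
import Groth.Agent.Lib.Helper6.Sib2.Pres
import Groth.Agent.Lib.Helper6.Sib2.NatSingles

set_option linter.unusedSectionVars false
set_option linter.unusedVariables false
set_option linter.unusedSimpArgs false
set_option autoImplicit false
set_option linter.style.haveILetI false
set_option maxHeartbeats 400000

universe w v u v' u'

noncomputable section

namespace Groth.Agent.Helper6.Sib2

open CategoryTheory CategoryTheory.Limits DerivedCategory CategoryTheory.Pretriangulated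
open Groth.Agent.Helper6.Sib ZeroObject

variable {A : Type u} [Category.{v} A] [Abelian A] [HasDerivedCategory.{w} A]

/-- a negative presentation of `K` in degree `b` -/
structure Pres (K : DerivedCategory.Bounded A) (b : ℤ) where
  /-- the single object -/
  Z : DerivedCategory.Bounded A
  /-- its presentation as a single -/
  r : SingRep b Z
  /-- the map -/
  ξ : Z ⟶ K
  /-- the cone -/
  Y : DerivedCategory.Bounded A
  /-- the map to the cone -/
  η : K ⟶ Y
  /-- the connecting map -/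
  δ : Y ⟶ Z⟦(1 : ℤ)⟧
  dist : Triangle.mk ξ η δ ∈ distTriang (DerivedCategory.Bounded A)
  epi : Epi ((DerivedCategory.homologyFunctor A b).map
    ((TStructure.t (C := A)).bounded.ι.map ξ))
  van : ∀ φ : K ⟶ Z, φ = 0

namespace Pres

variable {K : DerivedCategory.Bounded A} {b : ℤ}

lemma Y_isLE (P : Pres K b) (hK : K.obj.IsLE b) : P.Y.obj.IsLE (b - 1) := by
  have hT : (TStructure.t (C := A)).bounded.ι.mapTriangle.obj (Triangle.mk P.ξ P.η P.δ) ∈
    distTriang (DerivedCategory A) := P.dist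
  haveI : ((TStructure.t (C := A)).bounded.ι.mapTriangle.obj
      (Triangle.mk P.ξ P.η P.δ)).obj₁.IsLE b := P.r.isLE
  haveI : ((TStructure.t (C := A)).bounded.ι.mapTriangle.obj
      (Triangle.mk P.ξ P.η P.δ)).obj₂.IsLE b := hK
  exact cone_isLE hT b P.epi

lemma Y_isGE (P : Pres K b) (a' : ℤ) (hK : K.obj.IsGE a') (h : a' ≤ b - 1) :
    P.Y.obj.IsGE a' := by
  have hT : (TStructure.t (C := A)).bounded.ι.mapTriangle.obj (Triangle.mk P.ξ P.η P.δ) ∈
    distTriang (DerivedCategory A) := P.dist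
  haveI : ((TStructure.t (C := A)).bounded.ι.mapTriangle.obj
      (Triangle.mk P.ξ P.η P.δ)).obj₁.IsGE b := P.r.isGE
  haveI : ((TStructure.t (C := A)).bounded.ι.mapTriangle.obj
      (Triangle.mk P.ξ P.η P.δ)).obj₂.IsGE a' := hK
  exact cone_isGE hT a' b h

end Pres

/-- objects of amplitude at most `w` -/
def InW (w : ℕ) (K : DerivedCategory.Bounded A) : Prop :=
  ∃ a b : ℤ, K.obj.IsGE a ∧ K.obj.IsLE b ∧ b - a ≤ w

lemma InW.mono {w w' : ℕ} (h : w ≤ w') {K : DerivedCategory.Bounded A} (hK : InW w K) :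
    InW w' K := by
  obtain ⟨a, b, ha, hb, hab⟩ := hK
  exact ⟨a, b, ha, hb, by lia⟩

lemma InW.of_singRep (w : ℕ) {d : ℤ} {K : DerivedCategory.Bounded A} (r : SingRep d K) :
    InW w K :=
  ⟨d, d, r.isGE, r.isLE, by lia⟩

lemma Pres.Y_inW {K : DerivedCategory.Bounded A} {b : ℤ} (P : Pres K b) (w : ℕ) (a : ℤ)
    (ha : K.obj.IsGE a) (hb : K.obj.IsLE b) (hab : b - a ≤ w + 1) : InW w P.Y := by
  refine ⟨min a (b - 1), b - 1, ?_, P.Y_isLE hb, ?_⟩
  · haveI := ha
    exact P.Y_isGE _ (TStructure.t.isGE_of_ge K.obj (min a (b - 1)) a (min_le_left _ _))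
      (min_le_right _ _)
  · rcases le_total a (b - 1) with h | h
    · rw [min_eq_left h]; lia
    · rw [min_eq_right h]; lia

/-- the zero object has all bounds -/
lemma zero_isLE (n : ℤ) : (0 : DerivedCategory.Bounded A).obj.IsLE n :=
  TStructure.t.isLE_of_isZero
    ((TStructure.t (C := A)).bounded.ι.map_isZero (isZero_zero _)) n

variable (hneg : ∀ X : A, ∃ (N : A) (p : N ⟶ X), Epi p ∧ ∀ f : X ⟶ N, f = 0)

include hneg in
/-- existence of presentations with extra properties -/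
theorem exists_pres' (b : ℤ) (K M L : DerivedCategory.Bounded A) (g : K ⟶ L)
    (hK : K.obj.IsLE b) (hM : M.obj.IsLE b) (hL : L.obj.IsLE (b - 1)) :
    ∃ P : Pres K b, (∀ φ : M ⟶ P.Z, φ = 0) ∧ P.ξ ≫ g = 0 := by
  obtain ⟨N, ξ, hepi, hvK, hvM, hg⟩ := exists_pres hneg b K M L g hK hM hL
  obtain ⟨Y, η, δ, hT⟩ := distinguished_cocone_triangle ξ
  exact ⟨⟨sObj b N, singRepOfIso (Iso.refl _), ξ, Y, η, δ, hT, hepi, hvK⟩, hvM, hg⟩

include hneg in
/-- existence of presentations with vanishing against an auxiliary object -/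
theorem exists_pres_van (b : ℤ) (K M : DerivedCategory.Bounded A)
    (hK : K.obj.IsLE b) (hM : M.obj.IsLE b) :
    ∃ P : Pres K b, ∀ φ : M ⟶ P.Z, φ = 0 := by
  obtain ⟨P, hP, -⟩ := exists_pres' hneg b K M 0 0 hK hM (zero_isLE _)
  exact ⟨P, hP⟩

omit hneg in
/-- the sum of two presentations -/
lemma Pres.exists_sum {K : DerivedCategory.Bounded A} {b : ℤ} (P P₃ : Pres K b) :
    ∃ (P'' : Pres K b) (ν : P.Z ⟶ P''.Z) (ν₃ : P₃.Z ⟶ P''.Z),
      ν ≫ P''.ξ = P.ξ ∧ ν₃ ≫ P''.ξ = P₃.ξ := by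
  have hT : (TStructure.t (C := A)).bounded.ι.mapTriangle.obj
      (binaryBiproductTriangle P.Z P₃.Z) ∈ distTriang (DerivedCategory A) :=
    binaryBiproductTriangle_distinguished P.Z P₃.Z
  haveI h1 : (P.Z ⊞ P₃.Z).obj.IsLE b := TStructure.t.isLE₂ _ hT b P.r.isLE P₃.r.isLE
  haveI h2 : (P.Z ⊞ P₃.Z).obj.IsGE b := TStructure.t.isGE₂ _ hT b P.r.isGE P₃.r.isGE
  obtain ⟨r''⟩ := exists_singRep (P.Z ⊞ P₃.Z) b
  obtain ⟨Y, η, δ, hT''⟩ := distinguished_cocone_triangle (biprod.desc P.ξ P₃.ξ)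
  refine ⟨⟨P.Z ⊞ P₃.Z, r'', biprod.desc P.ξ P₃.ξ, Y, η, δ, hT'', ?_, ?_⟩, biprod.inl, biprod.inr,
    biprod.inl_desc _ _, biprod.inr_desc _ _⟩
  · have hfac : (DerivedCategory.homologyFunctor A b).map
        ((TStructure.t (C := A)).bounded.ι.map (biprod.inl : P.Z ⟶ P.Z ⊞ P₃.Z)) ≫
        (DerivedCategory.homologyFunctor A b).map
          ((TStructure.t (C := A)).bounded.ι.map (biprod.desc P.ξ P₃.ξ)) =
        (DerivedCategory.homologyFunctor A b).map
          ((TStructure.t (C := A)).bounded.ι.map P.ξ) := by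
      rw [← Functor.map_comp, ← Functor.map_comp, biprod.inl_desc]
    haveI := P.epi
    exact epi_of_epi_fac hfac
  · intro φ
    apply biprod.hom_ext
    · rw [P.van (φ ≫ biprod.fst), zero_comp]
    · rw [P₃.van (φ ≫ biprod.snd), zero_comp]

end Groth.Agent.Helper6.Sib2
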