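import Mathlib
import Groth.Agent.Lib.Helper6.Sib2.PresStruct

set_option linter.unusedSectionVars false
set_option linter.unusedVariables false
set_option linter.unusedSimpArgs false
set_option autoImplicit false
set_option linter.style.haveILetI false
set_option maxHeartbeats 400000

universe w v u v' u'

noncomputable section

namespace Groth.Agent.Helper6.Sib2

open CategoryTheory CategoryTheory.Limits DerivedCategory CategoryTheory.Pretriangulated
open Groth.Agent.Helper6.Sib ZeroObject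

variable {A : Type u} [Category.{v} A] [Abelian A] [HasDerivedCategory.{w} A]

variable {D : Type u'} [Category.{v'} D] [Preadditive D] [HasZeroObject D] [HasShift D ℤ]
  [∀ n : ℤ, (shiftFunctor D n).Additive] [Pretriangulated D]

variable (F F' : DerivedCategory.Bounded A ⥤ D) [F.CommShift ℤ] [F'.CommShift ℤ]
  (t : DEquiv.singleB A ⋙ F ≅ DEquiv.singleB A ⋙ F')

/-- a natural system of maps `F K ⟶ F' K` on objects of amplitude at most `w` -/
structure Sys (w : ℕ) where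
  /-- the maps -/
  s : ∀ K : DerivedCategory.Bounded A, F.obj K ⟶ F'.obj K
  nat : ∀ (K K' : DerivedCategory.Bounded A), InW w K → InW w K' → ∀ f : K ⟶ K',
    F.map f ≫ s K' = s K ≫ F'.map f
  single : ∀ (d : ℤ) (K : DerivedCategory.Bounded A) (r : SingRep d K),
    s K = (r.tIso F F' t).hom

variable {F F' t}

namespace Sys

variable {w : ℕ} (S : Sys F F' t w)

/-- restriction to a lower level -/
def restrict (w' : ℕ) (h : w' ≤ w) : Sys F F' t w' where
  s := S.s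
  nat K K' hK hK' f := S.nat K K' (hK.mono h) (hK'.mono h) f
  single := S.single

lemma shift_compat {d : ℤ} {Z : DerivedCategory.Bounded A} (r : SingRep d Z) :
    S.s (Z⟦(1 : ℤ)⟧) = (F.commShiftIso (1 : ℤ)).hom.app Z ≫ (S.s Z)⟦(1 : ℤ)⟧' ≫
      (F'.commShiftIso (1 : ℤ)).inv.app Z := by
  rw [S.single _ _ (r.shift 1 (d - 1) (by lia)), S.single _ _ r, SingRep.tIso_shift]

lemma tri_comm {d : ℤ} {Z Y : DerivedCategory.Bounded A} (r : SingRep d Z) (hY : InW w Y)
    (δ : Y ⟶ Z⟦(1 : ℤ)⟧) :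
    (F.map δ ≫ (F.commShiftIso (1 : ℤ)).hom.app Z) ≫ (S.s Z)⟦(1 : ℤ)⟧' =
      S.s Y ≫ F'.map δ ≫ (F'.commShiftIso (1 : ℤ)).hom.app Z := by
  have h1 := S.nat Y (Z⟦(1 : ℤ)⟧) hY (InW.of_singRep w (r.shift 1 (d - 1) (by lia))) δ
  rw [S.shift_compat r] at h1
  rw [← reassoc_of% h1]
  simp only [Category.assoc, Iso.inv_hom_id_app, Functor.comp_obj, Category.comp_id]

end Sys

variable [F.IsTriangulated] [F'.IsTriangulated] [F.Full] [F.Faithful]

/-- compatibility of `c` with the cone of a presentation -/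
def Sq {w : ℕ} (S : Sys F F' t w) {K : DerivedCategory.Bounded A} {b : ℤ} (P : Pres K b)
    (c : F.obj K ⟶ F'.obj K) : Prop :=
  c ≫ F'.map P.η = F.map P.η ≫ S.s P.Y

namespace Sq

variable {w : ℕ} {S : Sys F F' t w} {K : DerivedCategory.Bounded A} {b : ℤ}

lemma unique {P : Pres K b} {c c' : F.obj K ⟶ F'.obj K} (h : Sq S P c) (h' : Sq S P c') :
    c = c' := by
  have hF'T := F'.map_distinguished _ P.dist
  have h0 : (c - c') ≫ F'.map P.η = 0 := by
    rw [Preadditive.sub_comp, h, h', sub_self]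
  have e1 : ∃ e₂ : F.obj K ⟶ F'.obj P.Z, c - c' = e₂ ≫ F'.map P.ξ :=
    Triangle.coyoneda_exact₂ _ hF'T _ h0
  obtain ⟨e₂, he₂⟩ := e1
  rw [hom_FF'_zero t P.r P.van e₂, zero_comp] at he₂
  exact sub_eq_zero.1 he₂

lemma exists_of_inW (P : Pres K b) (hY : InW w P.Y) : ∃ c, Sq S P c := by
  have hFT := F.map_distinguished _ P.dist
  have hF'T := F'.map_distinguished _ P.dist
  obtain ⟨c, -, hc⟩ : ∃ c : F.obj K ⟶ F'.obj K,
      F.map P.ξ ≫ c = S.s P.Z ≫ F'.map P.ξ ∧ F.map P.η ≫ S.s P.Y = c ≫ F'.map P.η :=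
    complete_distinguished_triangle_morphism₂ _ _ hFT hF'T (S.s P.Z) (S.s P.Y)
      (S.tri_comm P.r hY P.δ)
  exact ⟨c, hc.symm⟩

lemma coarsen {P P'' : Pres K b} (ν : P.Z ⟶ P''.Z) (hν : ν ≫ P''.ξ = P.ξ)
    (hY : InW w P.Y) (hY'' : InW w P''.Y) {c : F.obj K ⟶ F'.obj K} (h : Sq S P c) :
    Sq S P'' c := by
  obtain ⟨y, hy, -⟩ : ∃ y : P.Y ⟶ P''.Y, P.η ≫ y = 𝟙 K ≫ P''.η ∧
      P.δ ≫ ν⟦(1 : ℤ)⟧' = y ≫ P''.δ :=
    complete_distinguished_triangle_morphism _ _ P.dist P''.dist ν (𝟙 K)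
      ((Category.comp_id _).trans hν.symm)
  rw [Category.id_comp] at hy
  dsimp only [Sq] at h ⊢
  rw [← hy, F'.map_comp, reassoc_of% h, F.map_comp, Category.assoc, S.nat _ _ hY hY'' y]

lemma indep {P P₃ : Pres K b} (a : ℤ) (ha : K.obj.IsGE a) (hb : K.obj.IsLE b)
    (hab : b - a ≤ w + 1) {c : F.obj K ⟶ F'.obj K} (h : Sq S P c) : Sq S P₃ c := by
  obtain ⟨P'', ν, ν₃, hν, hν₃⟩ := Pres.exists_sum P P₃
  have hY := P.Y_inW w a ha hb hab
  have hY₃ := P₃.Y_inW w a ha hb hab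
  have hY'' := P''.Y_inW w a ha hb hab
  obtain ⟨c₃, hc₃⟩ := exists_of_inW (S := S) P₃ hY₃
  have h1 := coarsen ν hν hY hY'' h
  have h2 := coarsen ν₃ hν₃ hY₃ hY'' hc₃
  rw [unique h1 h2]
  exact hc₃

end Sq

lemma Pres.Y_bounds {K : DerivedCategory.Bounded A} {b : ℤ} (P : Pres K b) (w : ℕ) (a : ℤ)
    (ha : K.obj.IsGE a) (hb : K.obj.IsLE b) (hab : b - a ≤ w + 1) :
    P.Y.obj.IsGE (min a (b - 1)) ∧ P.Y.obj.IsLE (b - 1) ∧ (b - 1) - min a (b - 1) ≤ w := by
  refine ⟨?_, P.Y_isLE hb, ?_⟩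
  · haveI := ha
    exact P.Y_isGE _ (TStructure.t.isGE_of_ge K.obj (min a (b - 1)) a (min_le_left _ _))
      (min_le_right _ _)
  · rcases le_total a (b - 1) with h | h
    · rw [min_eq_left h]; lia
    · rw [min_eq_right h]; lia

/-- compatibility of `c` with all maps to objects of smaller amplitude -/
def IsC {w : ℕ} (S : Sys F F' t w) (K : DerivedCategory.Bounded A)
    (c : F.obj K ⟶ F'.obj K) : Prop :=
  ∀ L, InW w L → ∀ g : K ⟶ L, c ≫ F'.map g = F.map g ≫ S.s L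

section

variable {w : ℕ} {S : Sys F F' t w} {K : DerivedCategory.Bounded A}

lemma isC_of_sys (S : Sys F F' t w) {K : DerivedCategory.Bounded A} (hK : InW w K) :
    IsC S K (S.s K) :=
  fun L hL g => (S.nat K L hK hL g).symm

lemma IsC.sq {c : F.obj K ⟶ F'.obj K} (h : IsC S K c) {b : ℤ} (P : Pres K b)
    (hY : InW w P.Y) : Sq S P c :=
  h P.Y hY P.η

variable (hneg : ∀ X : A, ∃ (N : A) (p : N ⟶ X), Epi p ∧ ∀ f : X ⟶ N, f = 0)

include hneg in
lemma IsC.unique (a b : ℤ) (ha : K.obj.IsGE a) (hb : K.obj.IsLE b) (hab : b - a ≤ w + 1)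
    {c c' : F.obj K ⟶ F'.obj K} (h : IsC S K c) (h' : IsC S K c') : c = c' := by
  obtain ⟨P, -⟩ := exists_pres_van hneg b K 0 hb (zero_isLE _)
  have hY := P.Y_inW w a ha hb hab
  exact Sq.unique (h.sq P hY) (h'.sq P hY)

include hneg in
lemma isC_of_sq (a b : ℤ) (ha : K.obj.IsGE a) (hb : K.obj.IsLE b) (hab : b - a ≤ w + 1)
    (P : Pres K b) {c : F.obj K ⟶ F'.obj K} (hc : Sq S P c) : IsC S K c := by
  have key : ∀ (n : ℕ) (L : DerivedCategory.Bounded A) (aL bL : ℤ), L.obj.IsGE aL →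
      L.obj.IsLE bL → bL - aL ≤ w → bL ≤ b - 1 + n →
      ∀ g : K ⟶ L, c ≫ F'.map g = F.map g ≫ S.s L := by
    intro n
    induction n with
    | zero =>
      intro L aL bL haL hbL hw hbb g
      haveI := hbL
      have hL1 : L.obj.IsLE (b - 1) := TStructure.t.isLE_of_le L.obj bL (b - 1) (by lia)
      obtain ⟨P₃, -, hP₃⟩ := exists_pres' hneg b K 0 L g hb (zero_isLE _) hL1
      have hY₃ := P₃.Y_inW w a ha hb hab
      have hc₃ : Sq S P₃ c := Sq.indep a ha hb hab hc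
      have e1 : ∃ g' : P₃.Y ⟶ L, g = P₃.η ≫ g' := Triangle.yoneda_exact₂ _ P₃.dist g hP₃
      obtain ⟨g', hg'⟩ := e1
      have hL : InW w L := ⟨aL, bL, haL, hbL, hw⟩
      dsimp only [Sq] at hc₃
      rw [hg', F'.map_comp, F.map_comp, reassoc_of% hc₃, Category.assoc, S.nat _ _ hY₃ hL g']
    | succ n ih =>
      intro L aL bL haL hbL hw hbb g
      by_cases hcase : bL ≤ b - 1 + n
      · exact ih L aL bL haL hbL hw hcase g
      · have hbL' : b ≤ bL := by push_cast at hbb; lia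
        haveI := hb
        have hKbL : K.obj.IsLE bL := TStructure.t.isLE_of_le K.obj b bL hbL'
        obtain ⟨PL, hPL⟩ := exists_pres_van hneg bL L K hbL hKbL
        have hL : InW w L := ⟨aL, bL, haL, hbL, hw⟩
        obtain ⟨hYge, hYle, hYw⟩ := PL.Y_bounds w aL haL hbL (by lia)
        have hYL : InW w PL.Y := ⟨_, _, hYge, hYle, hYw⟩
        have h1 := ih PL.Y _ _ hYge hYle hYw (by push_cast at hbb; lia) (g ≫ PL.η)
        have h0 : (c ≫ F'.map g - F.map g ≫ S.s L) ≫ F'.map PL.η = 0 := by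
          rw [Preadditive.sub_comp, Category.assoc, Category.assoc, ← F'.map_comp, h1,
            F.map_comp, Category.assoc, S.nat L PL.Y hL hYL PL.η, sub_self]
        have e1 : ∃ e₂ : F.obj K ⟶ F'.obj PL.Z,
            c ≫ F'.map g - F.map g ≫ S.s L = e₂ ≫ F'.map PL.ξ :=
          Triangle.coyoneda_exact₂ _ (F'.map_distinguished _ PL.dist) _ h0
        obtain ⟨e₂, he₂⟩ := e1
        rw [hom_FF'_zero t PL.r hPL e₂, zero_comp] at he₂
        exact sub_eq_zero.1 he₂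
  intro L hL g
  obtain ⟨aL, bL, haL, hbL, hw⟩ := hL
  exact key (bL - (b - 1)).toNat L aL bL haL hbL hw (by lia) g

include hneg in
lemma IsC.exists (a b : ℤ) (ha : K.obj.IsGE a) (hb : K.obj.IsLE b) (hab : b - a ≤ w + 1) :
    ∃ c, IsC S K c := by
  obtain ⟨P, -⟩ := exists_pres_van hneg b K 0 hb (zero_isLE _)
  obtain ⟨c, hc⟩ := Sq.exists_of_inW (S := S) P (P.Y_inW w a ha hb hab)
  exact ⟨c, isC_of_sq hneg a b ha hb hab P hc⟩

include hneg in
lemma IsC.nat : ∀ (n : ℕ) (K K' : DerivedCategory.Bounded A) (a b a' b' : ℤ),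
    K.obj.IsGE a → K.obj.IsLE b → b - a ≤ w + 1 →
    K'.obj.IsGE a' → K'.obj.IsLE b' → b' - a' ≤ w + 1 → b ≤ b' + n →
    ∀ (c : F.obj K ⟶ F'.obj K) (c' : F.obj K' ⟶ F'.obj K'), IsC S K c → IsC S K' c' →
    ∀ f : K ⟶ K', F.map f ≫ c' = c ≫ F'.map f := by
  intro n
  induction n with
  | zero =>
    intro K K' a b a' b' ha hb hab ha' hb' hab' hbb c c' hc hc' f
    haveI := hb
    have hKb' : K.obj.IsLE b' := TStructure.t.isLE_of_le K.obj b b' (by lia)
    obtain ⟨P', hP'⟩ := exists_pres_van hneg b' K' K hb' hKb'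
    have hY' := P'.Y_inW w a' ha' hb' hab'
    have h0 : (F.map f ≫ c' - c ≫ F'.map f) ≫ F'.map P'.η = 0 := by
      rw [Preadditive.sub_comp, Category.assoc, Category.assoc, hc' P'.Y hY' P'.η,
        ← F'.map_comp, hc P'.Y hY' (f ≫ P'.η), F.map_comp, Category.assoc, sub_self]
    have e1 : ∃ e₂ : F.obj K ⟶ F'.obj P'.Z,
        F.map f ≫ c' - c ≫ F'.map f = e₂ ≫ F'.map P'.ξ :=
      Triangle.coyoneda_exact₂ _ (F'.map_distinguished _ P'.dist) _ h0
    obtain ⟨e₂, he₂⟩ := e1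
    rw [hom_FF'_zero t P'.r hP' e₂, zero_comp] at he₂
    exact sub_eq_zero.1 he₂
  | succ n ih =>
    intro K K' a b a' b' ha hb hab ha' hb' hab' hbb c c' hc hc' f
    by_cases hcase : b ≤ b' + n
    · exact ih K K' a b a' b' ha hb hab ha' hb' hab' hcase c c' hc hc' f
    · have hb'b : b' ≤ b - 1 := by push_cast at hbb; lia
      haveI := hb'
      have hK'b : K'.obj.IsLE (b - 1) := TStructure.t.isLE_of_le K'.obj b' (b - 1) hb'b
      obtain ⟨P, -, hP⟩ := exists_pres' hneg b K 0 K' f hb (zero_isLE _) hK'b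
      obtain ⟨hYge, hYle, hYw⟩ := P.Y_bounds w a ha hb hab
      have hY : InW w P.Y := ⟨_, _, hYge, hYle, hYw⟩
      have e1 : ∃ f' : P.Y ⟶ K', f = P.η ≫ f' := Triangle.yoneda_exact₂ _ P.dist f hP
      obtain ⟨f', hf'⟩ := e1
      have h1 := ih P.Y K' _ _ a' b' hYge hYle (by lia) ha' hb' hab' (by lia) (S.s P.Y) c'
        (isC_of_sys S hY) hc' f'
      rw [hf', F.map_comp, F'.map_comp, Category.assoc, h1, ← Category.assoc,
        ← hc P.Y hY P.η, Category.assoc]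

end

section

variable (hneg : ∀ X : A, ∃ (N : A) (p : N ⟶ X), Epi p ∧ ∀ f : X ⟶ N, f = 0)

open Classical in
/-- the inductive step -/
def Sys.succ {w : ℕ} (S : Sys F F' t w) : Sys F F' t (w + 1) where
  s K := if h : ∃ c, IsC S K c then h.choose else 0
  nat K K' hK hK' f := by
    obtain ⟨a, b, ha, hb, hab⟩ := hK
    obtain ⟨a', b', ha', hb', hab'⟩ := hK'
    have hab1 : b - a ≤ (w : ℤ) + 1 := by push_cast at hab; lia
    have hab1' : b' - a' ≤ (w : ℤ) + 1 := by push_cast at hab'; lia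
    have hE := IsC.exists (S := S) hneg a b ha hb hab1
    have hE' := IsC.exists (S := S) hneg a' b' ha' hb' hab1'
    rw [dif_pos hE, dif_pos hE']
    exact IsC.nat hneg (b - b').toNat K K' a b a' b' ha hb hab1 ha' hb' hab1' (by lia) _ _
      hE.choose_spec hE'.choose_spec f
  single d K r := by
    have hK : InW w K := InW.of_singRep w r
    have hE : ∃ c, IsC S K c := ⟨_, isC_of_sys S hK⟩
    rw [dif_pos hE, ← S.single d K r]
    exact IsC.unique hneg d d r.isGE r.isLE (by lia) hE.choose_spec (isC_of_sys S hK)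

end

end Groth.Agent.Helper6.Sib2
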