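import Mathlib
import Groth.Agent.Lib.Helper6.Sib2.Sys

set_option linter.unusedSectionVars false
set_option linter.unusedVariables false
set_option linter.unusedSimpArgs false
set_option autoImplicit false
set_option linter.style.haveILetI false
set_option maxHeartbeats 400000

universe w v u v' u'

noncomputable section

namespace Groth.Agent.Helper6.Sib2

open CategoryTheory CategoryTheory.Limits DerivedCategory CategoryTheory.Pretriangulated
open Groth.Agent.Helper6.Sib ZeroObject

variable {A : Type u} [Category.{v} A] [Abelian A] [HasDerivedCategory.{w} A]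

variable {D : Type u'} [Category.{v'} D] [Preadditive D] [HasZeroObject D] [HasShift D ℤ]
  [∀ n : ℤ, (shiftFunctor D n).Additive] [Pretriangulated D]

variable {F F' : DerivedCategory.Bounded A ⥤ D} [F.CommShift ℤ] [F'.CommShift ℤ]
  {t : DEquiv.singleB A ⋙ F ≅ DEquiv.singleB A ⋙ F'}
  [F.IsTriangulated] [F'.IsTriangulated] [F.Full] [F.Faithful]

open Classical in
variable (F F' t) in
/-- the system on singles -/
def Sys.zero : Sys F F' t 0 where
  s K := if h : ∃ d : ℤ, Nonempty (SingRep d K) then (h.choose_spec.some.tIso F F' t).hom else 0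
  nat K K' hK hK' f := by
    obtain ⟨a, b, ha, hb, hab⟩ := hK
    obtain ⟨a', b', ha', hb', hab'⟩ := hK'
    haveI := ha
    haveI := hb
    haveI := ha'
    haveI := hb'
    haveI : K.obj.IsGE b := TStructure.t.isGE_of_ge K.obj b a (by push_cast at hab; lia)
    haveI : K'.obj.IsGE b' := TStructure.t.isGE_of_ge K'.obj b' a' (by push_cast at hab'; lia)
    obtain ⟨r⟩ := exists_singRep K b
    obtain ⟨r'⟩ := exists_singRep K' b'
    have hE : ∃ d : ℤ, Nonempty (SingRep d K) := ⟨b, ⟨r⟩⟩
    have hE' : ∃ d : ℤ, Nonempty (SingRep d K') := ⟨b', ⟨r'⟩⟩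
    rw [dif_pos hE, dif_pos hE']
    exact nat_singles t _ _ f
  single d K r := by
    have hE : ∃ d : ℤ, Nonempty (SingRep d K) := ⟨d, ⟨r⟩⟩
    rw [dif_pos hE]
    exact tIso_eq' t _ r

variable (hneg : ∀ X : A, ∃ (N : A) (p : N ⟶ X), Epi p ∧ ∀ f : X ⟶ N, f = 0)

include hneg in
variable (F F' t) in
lemma exists_sys : ∀ w : ℕ, Nonempty (Sys F F' t w) := by
  intro w
  induction w with
  | zero => exact ⟨Sys.zero F F' t⟩
  | succ w ih =>
    obtain ⟨S⟩ := ih
    exact ⟨S.succ hneg⟩

include hneg in
lemma Sys.unique : ∀ (w : ℕ) (S S' : Sys F F' t w) (K : DerivedCategory.Bounded A),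
    InW w K → S.s K = S'.s K := by
  intro w
  induction w with
  | zero =>
    intro S S' K hK
    obtain ⟨a, b, ha, hb, hab⟩ := hK
    haveI := ha
    haveI := hb
    haveI : K.obj.IsGE b := TStructure.t.isGE_of_ge K.obj b a (by push_cast at hab; lia)
    obtain ⟨r⟩ := exists_singRep K b
    rw [S.single b K r, S'.single b K r]
  | succ w ih =>
    intro S S' K hK
    obtain ⟨a, b, ha, hb, hab⟩ := hK
    have hK' : InW (w + 1) K := ⟨a, b, ha, hb, hab⟩
    have h1 : IsC (S.restrict w (Nat.le_succ w)) K (S.s K) := fun L hL g =>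
      (S.nat K L hK' (hL.mono (Nat.le_succ w)) g).symm
    have h2 : IsC (S.restrict w (Nat.le_succ w)) K (S'.s K) := fun L hL g => by
      have h3 := (S'.nat K L hK' (hL.mono (Nat.le_succ w)) g).symm
      have h4 : S'.s L = (S.restrict w (Nat.le_succ w)).s L :=
        ih (S'.restrict w (Nat.le_succ w)) (S.restrict w (Nat.le_succ w)) L hL
      rw [h3, h4]
    exact IsC.unique hneg a b ha hb (by push_cast at hab; lia) h1 h2

omit [F.Full] [F.Faithful] in
lemma Sys.isIso {w : ℕ} (S : Sys F F' t w) : ∀ (k : ℕ) (a b : ℤ) (K : DerivedCategory.Bounded A),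
    K.obj.IsGE a → K.obj.IsLE b → b - a ≤ k → k ≤ w → IsIso (S.s K) := by
  have base : ∀ (a b : ℤ) (K : DerivedCategory.Bounded A), K.obj.IsGE a → K.obj.IsLE b → b ≤ a →
      IsIso (S.s K) := by
    intro a b K ha hb hab
    haveI : K.obj.IsGE b := TStructure.t.isGE_of_ge K.obj b a hab
    obtain ⟨r⟩ := exists_singRep K b
    rw [S.single b K r]
    infer_instance
  intro k
  induction k with
  | zero =>
    intro a b K ha hb hk _
    exact base a b K ha hb (by lia)
  | succ k ih =>
    intro a b K ha hb hk hkw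
    by_cases hab : b ≤ a
    · exact base a b K ha hb hab
    · obtain ⟨Z, r, ξ, L, η, δ, hT, hL1, hL2⟩ := exists_devissage K a b (by lia)
      have hKw : InW w K := ⟨a, b, ha, hb, by push_cast at hk; lia⟩
      have hLw : InW w L := ⟨a, b - 1, hL1, hL2, by push_cast at hk; lia⟩
      have hZw : InW w Z := InW.of_singRep w r
      haveI hL : IsIso (S.s L) := ih a (b - 1) L hL1 hL2 (by push_cast at hk; lia) (by lia)
      haveI hZ : IsIso (S.s Z) := by
        rw [S.single b Z r]
        infer_instance
      have hFT := F.map_distinguished _ hT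
      have hF'T := F'.map_distinguished _ hT
      let Φ : F.mapTriangle.obj (Triangle.mk ξ η δ) ⟶ F'.mapTriangle.obj (Triangle.mk ξ η δ) :=
        { hom₁ := S.s Z
          hom₂ := S.s K
          hom₃ := S.s L
          comm₁ := S.nat Z K hZw hKw ξ
          comm₂ := S.nat K L hKw hLw η
          comm₃ := S.tri_comm r hLw δ }
      exact isIso₂_of_isIso₁₃ Φ hFT hF'T hZ hL

include hneg t in
variable (F F' t) in
/-- siblings of a fully faithful functor are isomorphic to it, when there are enough negative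
objects -/
theorem exists_natIso : Nonempty (F ≅ F') := by
  have S : ∀ w : ℕ, Sys F F' t w := fun w => (exists_sys F F' t hneg w).some
  have hInW : ∀ K : DerivedCategory.Bounded A, ∃ w, InW w K := by
    intro K
    obtain ⟨⟨a, ha⟩, ⟨b, hb⟩⟩ := K.property
    exact ⟨(b - a).toNat, a, b, ha, hb, by lia⟩
  choose wd hwd using hInW
  have hS : ∀ (w : ℕ) (K : DerivedCategory.Bounded A), wd K ≤ w →
      (S (wd K)).s K = (S w).s K := by
    intro w K h
    exact Sys.unique hneg (wd K) (S (wd K)) ((S w).restrict (wd K) h) K (hwd K)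
  have hnat : ∀ (K K' : DerivedCategory.Bounded A) (f : K ⟶ K'),
      F.map f ≫ (S (wd K')).s K' = (S (wd K)).s K ≫ F'.map f := by
    intro K K' f
    rw [hS (max (wd K) (wd K')) K (le_max_left _ _),
      hS (max (wd K) (wd K')) K' (le_max_right _ _)]
    exact (S _).nat K K' ((hwd K).mono (le_max_left _ _)) ((hwd K').mono (le_max_right _ _)) f
  have hiso : ∀ K : DerivedCategory.Bounded A, IsIso ((S (wd K)).s K) := by
    intro K
    obtain ⟨a, b, ha, hb, hab⟩ := hwd K
    exact Sys.isIso (S (wd K)) (wd K) a b K ha hb hab le_rfl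
  exact ⟨NatIso.ofComponents (fun K => @asIso _ _ _ _ ((S (wd K)).s K) (hiso K))
    (fun f => hnat _ _ f)⟩

end Groth.Agent.Helper6.Sib2
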